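import Groth.Agent.Lib.ARSys.Sub
import Mathlib

/-!
# Objects of cofinite type relative to a good class of small objects in an abelian category
-/

universe v u

open CategoryTheory CategoryTheory.Limits

namespace GrothLib.IndCof

variable {V : Type u} [Category.{v} V] [Abelian V]

/-- A class of "small" objects: closed under kernels, cokernels and extensions, generating, killed by
positive integers, and Artinian relative to itself. -/
structure Setup (Mem : ObjectProperty V) : Prop where
  of_iso : ∀ {X Y : V}, (X ≅ Y) → Mem X → Mem Y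
  ker : ∀ {X Y : V} (f : X ⟶ Y), Mem X → Mem Y → Mem (kernel f)
  coker : ∀ {X Y : V} (f : X ⟶ Y), Mem X → Mem Y → Mem (cokernel f)
  ext : ∀ S : ShortComplex V, S.ShortExact → Mem S.X₁ → Mem S.X₃ → Mem S.X₂
  zero : ∀ X : V, IsZero X → Mem X
  gen : ∀ {A R : V} (g : A ⟶ R), (∀ (T : V) (x : T ⟶ A), Mem T → x ≫ g = 0) → g = 0
  torsion : ∀ T : V, Mem T → ∃ n : ℕ, 0 < n ∧ n • 𝟙 T = 0
  art : ∀ (T : V), Mem T → ∀ S : ℕ → Subobject T, Antitone S → (∀ m, Mem (S m : V)) →
    ∃ N, ∀ m, N ≤ m → S m = S N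

/-- Multiplication by `n`. -/
abbrev mulN (A : V) (n : ℕ) : A ⟶ A := n • 𝟙 A

/-- The `n`-torsion subobject. -/
noncomputable abbrev tor (A : V) (n : ℕ) : Subobject A := kernelSubobject (mulN A n)

/-- Every `n`-torsion subobject is small. -/
def Cof (Mem : ObjectProperty V) (A : V) : Prop := ∀ n : ℕ, 0 < n → Mem (tor A n : V)

theorem comp_mulN {T A : V} (x : T ⟶ A) (n : ℕ) : x ≫ mulN A n = n • x := by
  simp [mulN, Preadditive.comp_nsmul]

theorem mulN_comm {A B : V} (f : A ⟶ B) (n : ℕ) : mulN A n ≫ f = f ≫ mulN B n := by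
  simp [mulN, Preadditive.comp_nsmul, Preadditive.nsmul_comp]

theorem factors_tor_iff {T A : V} (x : T ⟶ A) (n : ℕ) : (tor A n).Factors x ↔ n • x = 0 := by
  rw [kernelSubobject_factors_iff, comp_mulN]

theorem tor_mono (A : V) {m n : ℕ} (h : m ∣ n) : tor A m ≤ tor A n := by
  obtain ⟨c, rfl⟩ := h
  rw [GrothLib.ARSys.le_iff_factors]
  intro T x hx
  rw [factors_tor_iff] at hx ⊢
  rw [mul_comm, mul_nsmul', hx, nsmul_zero]

theorem factors_pw_iff {T A : V} (y : T ⟶ A) (n : ℕ) :
    (imageSubobject (mulN A n)).Factors y ↔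
      ∃ (T' : V) (π : T' ⟶ T) (_ : Epi π) (x : T' ⟶ A), π ≫ y = n • x := by
  simp only [GrothLib.ARSys.factors_imageSubobject_iff, comp_mulN]

theorem factors_img_mul_iff {T A : V} (S : Subobject A) (y : T ⟶ A) (n : ℕ) :
    (GrothLib.ARSys.img (mulN A n) S).Factors y ↔
      ∃ (T' : V) (π : T' ⟶ T) (_ : Epi π) (x : T' ⟶ A), S.Factors x ∧ π ≫ y = n • x := by
  simp only [GrothLib.ARSys.factors_img_iff, comp_mulN]

theorem factors_nsmul {T A : V} {S : Subobject A} {x : T ⟶ A} (h : S.Factors x) (n : ℕ) :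
    S.Factors (n • x) := by
  have : n • x = (n • 𝟙 T) ≫ x := by rw [Preadditive.nsmul_comp, Category.id_comp]
  rw [this]
  exact Subobject.factors_of_factors_right _ h

theorem factors_zsmul {T A : V} {S : Subobject A} {x : T ⟶ A} (h : S.Factors x) (n : ℤ) :
    S.Factors (n • x) := by
  have : n • x = (n • 𝟙 T) ≫ x := by rw [Preadditive.zsmul_comp, Category.id_comp]
  rw [this]
  exact Subobject.factors_of_factors_right _ h

theorem exists_bezout {M : Type*} [AddCommGroup M] {a b : ℕ} (h : Nat.Coprime a b) :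
    ∃ u v : ℤ, ∀ x : M, x = u • (a • x) + v • (b • x) := by
  refine ⟨Nat.gcdA a b, Nat.gcdB a b, fun x => ?_⟩
  have hg := Nat.gcd_eq_gcd_ab a b
  rw [h.gcd_eq_one, Nat.cast_one] at hg
  rw [← natCast_zsmul x a, ← natCast_zsmul x b, smul_smul, smul_smul, ← add_smul,
    show Nat.gcdA a b * (a : ℤ) + Nat.gcdB a b * (b : ℤ) = 1 by linarith, one_zsmul]

/-- A subobject is recognised as the kernel of its cokernel. -/
theorem factors_iff_comp_cokernel {T A : V} (D : Subobject A) (x : T ⟶ A) :
    D.Factors x ↔ x ≫ cokernel.π D.arrow = 0 := by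
  refine ⟨fun h => ?_, fun h => ?_⟩
  · rw [← D.factorThru_arrow x h, Category.assoc, cokernel.condition, comp_zero]
  · haveI : Mono D.arrow := Subobject.arrow_mono D
    exact (Subobject.factors_iff _ _).2
      (by exact ⟨Abelian.monoLift D.arrow x h, Abelian.monoLift_comp D.arrow x h⟩)

section Closure

variable {Mem : ObjectProperty V} (hS : Setup Mem)

include hS

theorem Setup.prop_left_of_exact (S : ShortComplex V) (hex : S.Exact) [Mono S.f]
    (h2 : Mem S.X₂) (h3 : Mem S.X₃) : Mem S.X₁ :=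
  hS.of_iso (IsLimit.conePointUniqueUpToIso (kernelIsKernel S.g) hex.fIsKernel) (hS.ker _ h2 h3)

theorem Setup.prop_right_of_exact (S : ShortComplex V) (hex : S.Exact) [Epi S.g]
    (h1 : Mem S.X₁) (h2 : Mem S.X₂) : Mem S.X₃ :=
  hS.of_iso (IsColimit.coconePointUniqueUpToIso (cokernelIsCokernel S.f) hex.gIsCokernel)
    (hS.coker _ h1 h2)

theorem Setup.prop_five {X Y W U Z : V} (a : X ⟶ Y) (b : Y ⟶ W) (c : W ⟶ U) (d : U ⟶ Z)
    (wab : a ≫ b = 0) (wbc : b ≫ c = 0) (wcd : c ≫ d = 0)
    (eY : (ShortComplex.mk a b wab).Exact) (eW : (ShortComplex.mk b c wbc).Exact)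
    (eU : (ShortComplex.mk c d wcd).Exact)
    (hX : Mem X) (hY : Mem Y) (hU : Mem U) (hZ : Mem Z) : Mem W := by
  refine hS.ext (ShortComplex.mk (cokernel.desc a b wab) (kernel.lift d c wcd) ?_) ?_
    (hS.coker a hX hY) (hS.ker d hU hZ)
  · refine coequalizer.hom_ext ((cancel_mono (kernel.ι d)).1 ?_)
    simp [wbc]
  · refine { exact := ?_, mono_f := ?_, epi_g := ?_ }
    · rw [ShortComplex.exact_iff_exact_up_to_refinements]
      intro T y hy
      have hy' : y ≫ c = 0 := by
        have := congrArg (· ≫ kernel.ι d) hy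
        simpa using this
      obtain ⟨T', π, hπ, z, hz⟩ := eW.exact_up_to_refinements y hy'
      exact ⟨T', π, hπ, z ≫ cokernel.π a, by simpa using hz⟩
    · refine Preadditive.mono_of_cancel_zero _ fun {T} x hx => ?_
      obtain ⟨T', π, hπ, y, hy⟩ := surjective_up_to_refinements_of_epi (cokernel.π a) x
      have hyb : y ≫ b = 0 := by
        have h := congrArg (fun φ => φ ≫ cokernel.desc a b wab) hy
        simp only [Category.assoc, cokernel.π_desc] at h
        rw [← h]
        exact (congrArg (π ≫ ·) hx).trans comp_zero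
      obtain ⟨T'', π', hπ', z, hz⟩ := eY.exact_up_to_refinements y hyb
      refine (cancel_epi π).1 ((cancel_epi π').1 ?_)
      have e : π' ≫ π ≫ x = z ≫ a ≫ cokernel.π a :=
        (congrArg (π' ≫ ·) hy).trans (((Category.assoc _ _ _).symm.trans
          (congrArg (· ≫ cokernel.π a) hz)).trans (Category.assoc _ _ _))
      simp [e]
    · rw [epi_iff_surjective_up_to_refinements]
      intro T y
      obtain ⟨T', π, hπ, z, hz⟩ := eU.exact_up_to_refinements (y ≫ kernel.ι d)
        (by rw [Category.assoc, kernel.condition, comp_zero])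
      exact ⟨T', π, hπ, z, by
        apply (cancel_mono (kernel.ι d)).1
        simpa using hz⟩

/-- The image of a small object is small if the kernel is. -/
theorem Setup.prop_image {X A : V} (h : X ⟶ A) (hX : Mem X) (hk : Mem (kernel h)) :
    Mem (imageSubobject h : V) :=
  hS.of_iso (Abelian.coimageIsoImage h ≪≫ Abelian.imageIsoImage h ≪≫ (imageSubobjectIso h).symm)
    (hS.coker (kernel.ι h) hk hX)

/-- The image of a small object inside a small subobject is small. -/
theorem Setup.prop_image_le {X A : V} (h : X ⟶ A) (T : Subobject A) (hT : Mem (T : V)) (hX : Mem X)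
    (hf : T.Factors h) : Mem (imageSubobject h : V) := by
  refine hS.prop_image h hX (hS.of_iso ?_ (hS.ker (T.factorThru h hf) hX hT))
  exact (kernelCompMono (T.factorThru h hf) T.arrow).symm ≪≫
    kernelIsoOfEq (T.factorThru_arrow h hf)

theorem Setup.art_le {A : V} (T : Subobject A) (hT : Mem (T : V)) (S : ℕ → Subobject A)
    (hanti : Antitone S) (hle : ∀ m, S m ≤ T) (hm : ∀ m, Mem (S m : V)) :
    ∃ N, ∀ m, N ≤ m → S m = S N := by
  let e := Subobject.subobjectOrderIso T
  obtain ⟨N, hN⟩ := hS.art (T : V) hT (fun m => e.symm ⟨S m, hle m⟩)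
    (fun a b hab => e.symm.monotone (show S b ≤ S a from hanti hab))
    (fun m => hS.of_iso (Subobject.underlyingIso _).symm (hm m))
  exact ⟨N, fun m hm' => congrArg Subtype.val (e.symm.injective (hN m hm'))⟩

theorem Setup.eq_zero_of_forall {A R : V} (g : A ⟶ R)
    (h : ∀ (T : V) (x : T ⟶ A) (n : ℕ), 0 < n → n • x = 0 → x ≫ g = 0) : g = 0 :=
  hS.gen g fun T x hT => by
    obtain ⟨n, hn, hn0⟩ := hS.torsion T hT
    exact h T x n hn (by rw [← Category.id_comp x, ← Preadditive.nsmul_comp, hn0, zero_comp])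

theorem Setup.le_of_forall {A : V} (D D' : Subobject A)
    (h : ∀ (T : V) (x : T ⟶ A) (n : ℕ), 0 < n → n • x = 0 → D.Factors x → D'.Factors x) :
    D ≤ D' := by
  refine Subobject.le_of_factors ((factors_iff_comp_cokernel D' _).2 ?_)
  refine hS.eq_zero_of_forall _ fun T x n hn hx => ?_
  rw [← Category.assoc, ← factors_iff_comp_cokernel]
  exact h T _ n hn (by rw [← Preadditive.nsmul_comp, hx, zero_comp]) (Subobject.factors_comp_arrow x)

theorem Setup.cof_iff {A : V} :
    Cof Mem A ↔ ∀ n : ℕ, 0 < n → Mem (kernel (mulN A n)) :=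
  forall₂_congr fun n _ => ⟨hS.of_iso (kernelSubobjectIso _), hS.of_iso (kernelSubobjectIso _).symm⟩

theorem Setup.cof_of_iso {A B : V} (e : A ≅ B) (h : Cof Mem A) : Cof Mem B := by
  rw [hS.cof_iff] at h ⊢
  exact fun n hn => hS.of_iso (kernel.mapIso (mulN A n) (mulN B n) e e (mulN_comm _ _)) (h n hn)

/-- Kernels of maps between objects of cofinite type. -/
theorem Setup.cof_kernel {A B : V} (f : A ⟶ B) (hA : Cof Mem A) (hB : Cof Mem B) :
    Cof Mem (kernel f) := by
  intro n hn
  let a : (tor (kernel f) n : V) ⟶ (tor A n : V) :=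
    (tor A n).factorThru ((tor (kernel f) n).arrow ≫ kernel.ι f) (by
      rw [kernelSubobject_factors_iff, Category.assoc, ← mulN_comm, kernelSubobject_arrow_comp_assoc,
        zero_comp])
  let b : (tor A n : V) ⟶ (tor B n : V) :=
    (tor B n).factorThru ((tor A n).arrow ≫ f) (by
      rw [kernelSubobject_factors_iff, Category.assoc, ← mulN_comm, kernelSubobject_arrow_comp_assoc,
        zero_comp])
  have hab : a ≫ b = 0 := by
    apply (cancel_mono (tor B n).arrow).1
    simp [a, b]
  haveI : Mono a := by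
    have : Mono (a ≫ (tor A n).arrow) := by simp only [a, Subobject.factorThru_arrow]; infer_instance
    exact mono_of_mono a (tor A n).arrow
  refine hS.prop_left_of_exact (ShortComplex.mk a b hab) ?_ (hA n hn) (hB n hn)
  rw [ShortComplex.exact_iff_exact_up_to_refinements]
  intro T y hy
  have hy' : (y ≫ (tor A n).arrow) ≫ f = 0 := by
    have := congrArg (· ≫ (tor B n).arrow) hy
    simpa [b] using this
  have hk : n • kernel.lift f (y ≫ (tor A n).arrow) hy' = 0 := by
    apply (cancel_mono (kernel.ι f)).1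
    rw [zero_comp, Preadditive.nsmul_comp, kernel.lift_ι, ← comp_mulN, Category.assoc,
      kernelSubobject_arrow_comp, comp_zero]
  refine ⟨T, 𝟙 T, inferInstance, (tor (kernel f) n).factorThru _ ((factors_tor_iff _ n).2 hk), ?_⟩
  apply (cancel_mono (tor A n).arrow).1
  simp [a]

end Closure

end GrothLib.IndCof
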