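import Groth.Agent.Lib.IndCof.Torsion

/-!
# Divisible subobjects, the Mittag-Leffler condition, descending chains
-/

universe v u

open CategoryTheory CategoryTheory.Limits

namespace GrothLib.IndCof

variable {V : Type u} [Category.{v} V] [Abelian V]

open GrothLib.ARSys (img)

theorem img_mulN_one {A : V} (S : Subobject A) : img (mulN A 1) S = S := by
  rw [show mulN A 1 = 𝟙 A from one_nsmul _, GrothLib.ARSys.img_id]

theorem epi_mulN_iff {A : V} (D : Subobject A) (k : ℕ) :
    Epi (k • 𝟙 (D : V)) ↔ img (mulN A k) D = D := by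
  constructor
  · intro h
    refine le_antisymm (img_mulN_le D k) ?_
    rw [GrothLib.ARSys.le_iff_factors]
    intro T y hy
    obtain ⟨T', π, hπ, z, hz⟩ := surjective_up_to_refinements_of_epi (k • 𝟙 (D : V)) (D.factorThru y hy)
    refine (factors_img_mul_iff _ _ _).2 ⟨T', π, hπ, z ≫ D.arrow, Subobject.factors_comp_arrow _, ?_⟩
    have := congrArg (· ≫ D.arrow) hz
    simpa [Preadditive.nsmul_comp] using this
  · intro h
    rw [epi_iff_surjective_up_to_refinements]
    intro T y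
    have hy : (img (mulN A k) D).Factors (y ≫ D.arrow) := by rw [h]; exact Subobject.factors_comp_arrow y
    obtain ⟨T', π, hπ, x, hx, e⟩ := (factors_img_mul_iff _ _ _).1 hy
    refine ⟨T', π, hπ, D.factorThru x hx, (cancel_mono D.arrow).1 ?_⟩
    simpa [Preadditive.nsmul_comp] using e

theorem div_of_forall_prime {A : V} (D : Subobject A) (h : ∀ q : ℕ, q.Prime → img (mulN A q) D = D) :
    ∀ k : ℕ, 0 < k → img (mulN A k) D = D := by
  intro k
  induction k using Nat.strong_induction_on with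
  | _ k ih =>
    intro hk
    by_cases h1 : k = 1
    · rw [h1, img_mulN_one]
    · obtain ⟨q, hq, c, rfl⟩ := Nat.exists_prime_and_dvd h1
      have hc : 0 < c := Nat.pos_of_ne_zero (by rintro rfl; simp at hk)
      rw [img_mulN_mul, h q hq, ih c (lt_mul_left hc hq.one_lt) hc]

theorem le_pw_of_div {A : V} {D : Subobject A} {k : ℕ} (h : img (mulN A k) D = D) :
    D ≤ imageSubobject (mulN A k) := by
  rw [← h, pw_eq_img]
  exact GrothLib.ARSys.img_mono _ le_top

theorem pw_le_iff {A : V} (B : Subobject A) (M : ℕ) :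
    imageSubobject (mulN A M) ≤ B ↔ M • 𝟙 (cokernel B.arrow) = 0 := by
  constructor
  · intro h
    have h1 : B.Factors (mulN A M) := Subobject.factors_of_le _ h (by
      simpa using imageSubobject_factors_comp_self (mulN A M) (𝟙 A))
    rw [factors_iff_comp_cokernel, mulN_comm] at h1
    exact (cancel_epi (cokernel.π B.arrow)).1 (h1.trans comp_zero.symm)
  · intro h
    rw [GrothLib.ARSys.le_iff_factors]
    intro T y hy
    obtain ⟨T', π, hπ, x, e⟩ := (factors_pw_iff _ _).1 hy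
    refine GrothLib.ARSys.factors_of_epi π ((factors_iff_comp_cokernel _ _).2 ?_)
    rw [e, ← comp_mulN, Category.assoc, mulN_comm, show mulN (cokernel B.arrow) M = 0 from h,
      comp_zero, comp_zero]

/-- The Mittag-Leffler condition for multiplication, in terms of a divisible subobject. -/
theorem ml_iff (B : V) :
    ((∀ n : ℕ, 0 < n → ∃ m : ℕ, 0 < m ∧ n ∣ m ∧ ∀ m' : ℕ, 0 < m' → m ∣ m' →
        imageSubobject ((m' / n) • 𝟙 B) = imageSubobject ((m / n) • 𝟙 B)) ↔
      ∃ B' : Subobject B, (∀ k : ℕ, 0 < k → Epi (k • 𝟙 (B' : V))) ∧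
        ∃ M : ℕ, 0 < M ∧ M • 𝟙 (cokernel B'.arrow) = 0) ∧
    (∀ B' : Subobject B, (∀ k : ℕ, 0 < k → Epi (k • 𝟙 (B' : V))) →
      (∃ M : ℕ, 0 < M ∧ M • 𝟙 (cokernel B'.arrow) = 0) →
      ∀ D : Subobject B, (∀ k : ℕ, 0 < k → Epi (k • 𝟙 (D : V))) → D ≤ B') := by
  refine ⟨⟨fun h => ?_, ?_⟩, ?_⟩
  · obtain ⟨M, hM, -, hst⟩ := h 1 one_pos
    refine ⟨imageSubobject (mulN B M), fun k hk => (epi_mulN_iff _ k).2 ?_, M, hM,
      (pw_le_iff _ M).1 le_rfl⟩
    have := hst (M * k) (Nat.mul_pos hM hk) (dvd_mul_right M k)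
    simp only [Nat.div_one] at this
    have e : img (mulN B k) (imageSubobject (mulN B M)) = imageSubobject (mulN B (M * k)) := by
      rw [pw_eq_img, pw_eq_img, ← img_mulN_mul]
    exact e.trans this
  · rintro ⟨B', hB, M, hM, hkill⟩ n hn
    refine ⟨n * M, Nat.mul_pos hn hM, dvd_mul_right n M, fun m' hm' hdvd => ?_⟩
    have hB' : ∀ j, 0 < j → imageSubobject (mulN B (M * j)) = B' := fun j hj =>
      le_antisymm ((pw_mul_le B M j).trans ((pw_le_iff B' M).2 hkill))
        (le_pw_of_div ((epi_mulN_iff B' _).1 (hB _ (Nat.mul_pos hM hj))))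
    obtain ⟨c, rfl⟩ := hdvd
    have hc : 0 < c := Nat.pos_of_ne_zero (by rintro rfl; simp at hm')
    rw [mul_assoc, Nat.mul_div_cancel_left _ hn, Nat.mul_div_cancel_left _ hn]
    exact (hB' c hc).trans ((hB' 1 one_pos).symm.trans (by rw [mul_one]))
  · rintro B' hB ⟨M, hM, hkill⟩ D hD
    exact (le_pw_of_div ((epi_mulN_iff D M).1 (hD M hM))).trans ((pw_le_iff B' M).2 hkill)

variable {Mem : ObjectProperty V} (hS : Setup Mem)

include hS

theorem Setup.prop_inf_tor_iff {A : V} (D : Subobject A) (n : ℕ) :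
    Mem (D ⊓ tor A n : Subobject A) ↔ Mem (tor (D : V) n : V) := by
  haveI : Mono ((tor (D : V) n).arrow ≫ D.arrow) := mono_comp _ _
  have e : Subobject.mk ((tor (D : V) n).arrow ≫ D.arrow) = D ⊓ tor A n := by
    refine le_antisymm (le_inf ?_ ?_) ?_
    · exact Subobject.mk_le_of_comm (tor (D : V) n).arrow rfl
    · refine Subobject.mk_le_of_comm ((tor A n).factorThru ((tor (D : V) n).arrow ≫ D.arrow) ?_)
        (Subobject.factorThru_arrow _ _ _)
      rw [factors_tor_iff, ← comp_mulN, Category.assoc, ← mulN_comm, ← Category.assoc,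
        kernelSubobject_arrow_comp, zero_comp]
    · rw [GrothLib.ARSys.le_iff_factors]
      intro T y hy
      obtain ⟨h1, h2⟩ := (GrothLib.ARSys.factors_inf_iff y).1 hy
      rw [factors_tor_iff] at h2
      have hy' : (tor (D : V) n).Factors (D.factorThru y h1) := by
        rw [factors_tor_iff]
        apply (cancel_mono D.arrow).1
        rw [Preadditive.nsmul_comp, Subobject.factorThru_arrow, h2, zero_comp]
      rw [Subobject.mk_factors_iff]
      exact ⟨(tor (D : V) n).factorThru _ hy',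
        by show (tor (D : V) n).factorThru _ hy' ≫ (tor (D : V) n).arrow ≫ D.arrow = y; simp⟩
  rw [← e]
  exact ⟨hS.of_iso (Subobject.underlyingIso _), hS.of_iso (Subobject.underlyingIso _).symm⟩

theorem Setup.cof_subobject_iff {A : V} (D : Subobject A) :
    Cof Mem (D : V) ↔ ∀ n : ℕ, 0 < n → Mem (D ⊓ tor A n : Subobject A) :=
  forall₂_congr fun n _ => (hS.prop_inf_tor_iff D n).symm

/-- Descending chains of subobjects of cofinite type stabilise (`p`-power torsion). -/
theorem Setup.chain_stabilizes {p : ℕ} (hp : 0 < p)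
    (htor : ∀ T, Mem T → ∃ j : ℕ, (p ^ j) • 𝟙 T = 0) {A : V} (hA : Cof Mem A)
    (S : ℕ → Subobject A) (hanti : Antitone S) (hcof : ∀ m, Cof Mem (S m : V)) :
    ∃ N : ℕ, ∀ m : ℕ, N ≤ m → S m = S N := by
  let B : ℕ → ℕ → Subobject A := fun m j => img (mulN A (p ^ j)) (S m ⊓ tor A (p ^ (j + 1)))
  have hBle : ∀ m j, B m j ≤ tor A p := fun m j => by
    rw [GrothLib.ARSys.le_iff_factors]
    intro T y hy
    obtain ⟨T', π, hπ, x, hx, e⟩ := (factors_img_mul_iff _ _ _).1 hy
    have hx' := ((GrothLib.ARSys.factors_inf_iff x).1 hx).2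
    rw [factors_tor_iff] at hx'
    refine GrothLib.ARSys.factors_of_epi π ((factors_tor_iff _ _).2 ?_)
    rw [e, ← mul_nsmul', ← pow_succ', hx']
  have hBm : ∀ m j, Mem (B m j : V) := fun m j => by
    refine hS.prop_image_le _ (tor A p) (hA p hp) ((hS.cof_subobject_iff _).1 (hcof m) _ (pow_pos hp _)) ?_
    rw [factors_tor_iff, comp_mulN, ← mul_nsmul', ← pow_succ']
    exact (factors_tor_iff _ _).1 (Subobject.factors_of_le _ inf_le_right (Subobject.factors_self _))
  have hB1 : ∀ j, Antitone fun m => B m j := fun j a b hab =>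
    GrothLib.ARSys.img_mono _ (inf_le_inf_right _ (hanti hab))
  have hB2 : ∀ m, Antitone (B m) := fun m => antitone_nat_of_succ_le fun j => by
    rw [GrothLib.ARSys.le_iff_factors]
    intro T y hy
    obtain ⟨T', π, hπ, x, hx, e⟩ := (factors_img_mul_iff _ _ _).1 hy
    obtain ⟨hx1, hx2⟩ := (GrothLib.ARSys.factors_inf_iff x).1 hx
    rw [factors_tor_iff] at hx2
    refine (factors_img_mul_iff _ _ _).2 ⟨T', π, hπ, p • x,
      (GrothLib.ARSys.factors_inf_iff _).2 ⟨factors_nsmul hx1 p, (factors_tor_iff _ _).2 ?_⟩, ?_⟩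
    · rw [← mul_nsmul', ← pow_succ, hx2]
    · rw [e, ← mul_nsmul', ← pow_succ]
  obtain ⟨M, hM⟩ := hS.art_le (tor A p) (hA p hp) (fun m => B m m)
    (fun a b hab => (hB1 b hab).trans (hB2 a hab)) (fun m => hBle m m) (fun m => hBm m m)
  have hbig : ∀ m j, M ≤ m → M ≤ j → B m j = B M M := fun m j hm hj => by
    refine le_antisymm ((hB1 j hm).trans (hB2 M hj)) ?_
    rw [← hM (max m j) (le_trans hm (le_max_left _ _))]
    exact (hB1 _ (le_max_left m j)).trans (hB2 m (le_max_right m j))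
  choose Nj hNj using fun j => hS.art_le (tor A p) (hA p hp) (fun m => B m j) (hB1 j) (fun m => hBle m j)
    (fun m => hBm m j)
  let N := max M ((Finset.range M).sup Nj)
  have hall : ∀ m, N ≤ m → ∀ j, B m j = B N j := fun m hm j => by
    by_cases hj : M ≤ j
    · rw [hbig m j (le_trans (le_max_left _ _) hm) hj, hbig N j (le_max_left _ _) hj]
    · have h1 : Nj j ≤ N := le_trans (Finset.le_sup (Finset.mem_range.2 (by omega))) (le_max_right _ _)
      exact (hNj j m (h1.trans hm)).trans (hNj j N h1).symm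
  refine ⟨N, fun m hm => le_antisymm (hanti hm) ?_⟩
  have key : ∀ (j : ℕ) {T : V} (x : T ⟶ A), (S N).Factors x → p ^ j • x = 0 → (S m).Factors x := by
    intro j
    induction j with
    | zero =>
      intro T x _ hx
      rw [pow_zero, one_nsmul] at hx
      rw [hx]; exact Subobject.factors_zero
    | succ j ih =>
      intro T x hx hx0
      have h1 : (B N j).Factors (p ^ j • x) := (factors_img_mul_iff _ _ _).2 ⟨T, 𝟙 T, inferInstance, x,
        (GrothLib.ARSys.factors_inf_iff x).2 ⟨hx, (factors_tor_iff _ _).2 hx0⟩, Category.id_comp _⟩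
      rw [← hall m hm j] at h1
      obtain ⟨T', π, hπ, y, hy, e⟩ := (factors_img_mul_iff _ _ _).1 h1
      have hy1 := ((GrothLib.ARSys.factors_inf_iff y).1 hy).1
      have h2 : (S m).Factors (π ≫ x - y) := by
        refine ih _ (GrothLib.ARSys.factors_sub (Subobject.factors_of_factors_right π hx)
          (Subobject.factors_of_le _ (hanti hm) hy1)) ?_
        rw [nsmul_sub, ← Preadditive.comp_nsmul, e, sub_self]
      refine GrothLib.ARSys.factors_of_epi π ?_
      rw [← sub_add_cancel (π ≫ x) y]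
      exact Subobject.factors_add _ _ h2 hy1
  refine Subobject.le_of_factors ((factors_iff_comp_cokernel (S m) _).2 (hS.gen _ fun T x hT => ?_))
  obtain ⟨j, hj⟩ := htor T hT
  rw [← Category.assoc, ← factors_iff_comp_cokernel]
  refine key j _ (Subobject.factors_comp_arrow x) ?_
  rw [← Category.id_comp (x ≫ (S N).arrow), ← Preadditive.nsmul_comp, hj, zero_comp]

theorem Setup.prop_cokernel_pw {A : V} (hA : Cof Mem A) {M : ℕ} (hM : 0 < M) :
    Mem (cokernel (imageSubobject (mulN A M)).arrow) := by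
  set I := imageSubobject (mulN A M)
  have hI : I.Factors (mulN A M) := by simpa [I] using imageSubobject_factors_comp_self (mulN A M) (𝟙 A)
  have w : mulN A M ≫ cokernel.π I.arrow = 0 := (factors_iff_comp_cokernel _ _).1 hI
  have hex : (ShortComplex.mk (mulN A M) (cokernel.π I.arrow) w).Exact := by
    rw [ShortComplex.exact_iff_exact_up_to_refinements]
    intro T y hy
    obtain ⟨T', π, hπ, x, e⟩ := (factors_pw_iff _ _).1 ((factors_iff_comp_cokernel I y).2 hy)
    exact ⟨T', π, hπ, x, e.trans (comp_mulN x M).symm⟩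
  haveI : Epi (ShortComplex.mk (mulN A M) (cokernel.π I.arrow) w).g :=
    (inferInstance : Epi (cokernel.π I.arrow))
  exact hS.of_iso (show cokernel (mulN A M) ≅ cokernel I.arrow from
    IsColimit.coconePointUniqueUpToIso (cokernelIsCokernel (mulN A M)) hex.gIsCokernel)
    (hS.cof_quot hA hM)

theorem Setup.ml_iff_cof {A : V} (hA : Cof Mem A) :
    ((∀ n : ℕ, 0 < n → ∃ m : ℕ, 0 < m ∧ n ∣ m ∧ ∀ m' : ℕ, 0 < m' → m ∣ m' →
        imageSubobject ((m' / n) • 𝟙 A) = imageSubobject ((m / n) • 𝟙 A)) ↔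
      ∃ B' : Subobject A, (∀ k : ℕ, 0 < k → Epi (k • 𝟙 (B' : V))) ∧
        Mem (cokernel B'.arrow)) ∧
    ((∃ B' : Subobject A, (∀ k : ℕ, 0 < k → Epi (k • 𝟙 (B' : V))) ∧
        Mem (cokernel B'.arrow)) ↔
      {p : ℕ | p.Prime ∧ ¬ Epi (p • 𝟙 A)}.Finite) := by
  have h21 : (∃ B' : Subobject A, (∀ k : ℕ, 0 < k → Epi (k • 𝟙 (B' : V))) ∧ Mem (cokernel B'.arrow)) →
      ∀ n : ℕ, 0 < n → ∃ m : ℕ, 0 < m ∧ n ∣ m ∧ ∀ m' : ℕ, 0 < m' → m ∣ m' →
        imageSubobject ((m' / n) • 𝟙 A) = imageSubobject ((m / n) • 𝟙 A) := by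
    rintro ⟨B', h1, h2⟩
    exact (ml_iff A).1.2 ⟨B', h1, hS.torsion _ h2⟩
  have h32 : {p : ℕ | p.Prime ∧ ¬ Epi (p • 𝟙 A)}.Finite →
      ∃ B' : Subobject A, (∀ k : ℕ, 0 < k → Epi (k • 𝟙 (B' : V))) ∧ Mem (cokernel B'.arrow) := by
    intro hfin
    let n₀ := ∏ q ∈ hfin.toFinset, q
    have hn₀ : 0 < n₀ := Finset.prod_pos fun q hq => (hfin.mem_toFinset.1 hq).1.pos
    obtain ⟨N, hN⟩ := hS.exists_pw_stable hA hn₀
    refine ⟨imageSubobject (mulN A (n₀ ^ N)), fun k hk =>
      (epi_mulN_iff _ k).2 (div_of_forall_prime _ (fun q hq => ?_) k hk),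
      hS.prop_cokernel_pw hA (pow_pos hn₀ N)⟩
    by_cases hbad : Epi (q • 𝟙 A)
    · haveI : Epi (mulN A q) := hbad
      rw [pw_eq_img, img_mulN_comm, GrothLib.ARSys.img_top_of_epi (mulN A q)]
    · refine le_antisymm (img_mulN_le _ _) ?_
      obtain ⟨c, hc⟩ := Finset.dvd_prod_of_mem (fun q : ℕ => q) (hfin.mem_toFinset.2 ⟨hq, hbad⟩)
      conv_lhs => rw [← hN (N + 1) (by omega)]
      rw [pw_eq_img, pw_eq_img, ← img_mulN_mul,
        show n₀ ^ (N + 1) = n₀ ^ N * q * c by rw [pow_succ, mul_assoc]; exact congrArg _ hc,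
        img_mulN_mul _ (n₀ ^ N * q) c]
      exact img_mulN_le _ _
  have h12 : (∀ n : ℕ, 0 < n → ∃ m : ℕ, 0 < m ∧ n ∣ m ∧ ∀ m' : ℕ, 0 < m' → m ∣ m' →
        imageSubobject ((m' / n) • 𝟙 A) = imageSubobject ((m / n) • 𝟙 A)) →
      ∃ B' : Subobject A, (∀ k : ℕ, 0 < k → Epi (k • 𝟙 (B' : V))) ∧ Mem (cokernel B'.arrow) := by
    intro h
    obtain ⟨M, hM, -, hst⟩ := h 1 one_pos
    refine ⟨imageSubobject (mulN A M), fun k hk => (epi_mulN_iff _ k).2 ?_, hS.prop_cokernel_pw hA hM⟩
    have := hst (M * k) (Nat.mul_pos hM hk) (dvd_mul_right M k)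
    simp only [Nat.div_one] at this
    have e : img (mulN A k) (imageSubobject (mulN A M)) = imageSubobject (mulN A (M * k)) := by
      rw [pw_eq_img, pw_eq_img, ← img_mulN_mul]
    exact e.trans this
  refine ⟨⟨h12, h21⟩, ⟨?_, h32⟩⟩
  rintro ⟨B', h1, h2⟩
  obtain ⟨M, hM, hM0⟩ := hS.torsion _ h2
  refine (Set.finite_le_nat M).subset fun q hq => ?_
  obtain ⟨hq, hbad⟩ := hq
  by_contra hgt
  have hgt' : M < q := not_le.1 hgt
  refine hbad ?_
  rw [epi_iff_surjective_up_to_refinements]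
  intro T x
  have hco : Nat.Coprime q M :=
    hq.coprime_iff_not_dvd.2 fun h => by have := Nat.le_of_dvd hM h; omega
  obtain ⟨u, v, huv⟩ := exists_bezout (M := T ⟶ A) hco
  have hMx : B'.Factors (M • x) :=
    Subobject.factors_of_le _ ((pw_le_iff B' M).2 hM0)
      ((factors_pw_iff _ _).2 ⟨T, 𝟙 T, inferInstance, x, Category.id_comp _⟩)
  rw [← (epi_mulN_iff B' q).1 (h1 q hq.pos)] at hMx
  obtain ⟨T', π, hπ, y, -, e⟩ := (factors_img_mul_iff _ _ _).1 hMx
  refine ⟨T', π, hπ, u • (π ≫ x) + v • y, ?_⟩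
  show π ≫ x = (u • (π ≫ x) + v • y) ≫ mulN A q
  rw [comp_mulN, nsmul_add, smul_comm q u, smul_comm q v, ← e]
  conv_lhs => rw [huv x]
  simp only [Preadditive.comp_add, Preadditive.comp_zsmul, Preadditive.comp_nsmul]

section Largest

variable [IsGrothendieckAbelian.{v} V]

/-- The largest divisible subobject of an object of cofinite type. -/
theorem Setup.exists_largest_div {A : V} (hA : Cof Mem A) :
    ∃ D : Subobject A, (∀ k : ℕ, 0 < k → Epi (k • 𝟙 (D : V))) ∧
      (∀ D' : Subobject A, (∀ k : ℕ, 0 < k → Epi (k • 𝟙 (D' : V))) → D' ≤ D) ∧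
      (∀ n : ℕ, 0 < n → Mem (kernel (n • 𝟙 (D : V)))) ∧
      (∀ n : ℕ, 0 < n → Mem (kernel (n • 𝟙 (cokernel D.arrow)))) := by
  let 𝒟 : Set (Subobject A) := {D | ∀ k, 0 < k → img (mulN A k) D = D}
  let D := sSup 𝒟
  have hDdiv : D ∈ 𝒟 := fun k hk => by
    refine le_antisymm (img_mulN_le _ _) (sSup_le fun E hE => ?_)
    rw [← hE k hk]
    exact GrothLib.ARSys.img_mono _ (le_sSup hE)
  have hDn : ∀ n, 0 < n → Mem (D ⊓ tor A n : Subobject A) := by
    intro n hn
    obtain ⟨N, hN⟩ := hS.exists_pw_stable hA hn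
    set I := imageSubobject (mulN A (n ^ N)) with hI
    suffices h : D ⊓ tor A n = I ⊓ tor A n by
      rw [h]
      exact (hS.cof_subobject_iff I).1 (hS.cof_imageSubobject _ hA hA) n hn
    refine le_antisymm (inf_le_inf_right _ (le_pw_of_div (hDdiv _ (pow_pos hn N)))) (le_inf ?_ inf_le_right)
    let E : Subobject A := ⨆ k : ℕ, img (mulN A (n ^ N)) (tor A (n ^ k))
    have hnE : img (mulN A n) E = E := by
      refine le_antisymm (img_mulN_le _ _) ?_
      rw [(GrothLib.ARSys.gc_img_pre (mulN A n)).l_iSup]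
      refine iSup_le fun k => ?_
      refine le_trans ?_ (le_iSup _ (k + N + 1))
      rw [← img_mulN_mul, ← pow_succ, GrothLib.ARSys.le_iff_factors]
      intro T y hy
      obtain ⟨T', π, hπ, a, ha, e⟩ := (factors_img_mul_iff _ _ _).1 hy
      rw [factors_tor_iff] at ha
      have h1 : I.Factors (π ≫ y) := (factors_pw_iff _ _).2 ⟨T', 𝟙 _, inferInstance, a, by rw [Category.id_comp, e]⟩
      rw [← hN (N + 1) (by omega)] at h1
      obtain ⟨T'', π', hπ', b, eb⟩ := (factors_pw_iff _ _).1 h1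
      refine GrothLib.ARSys.factors_of_epi π (GrothLib.ARSys.factors_of_epi π'
        ((factors_img_mul_iff _ _ _).2 ⟨T'', 𝟙 _, inferInstance, b, (factors_tor_iff _ _).2 ?_,
          by rw [Category.id_comp, eb]⟩))
      rw [show n ^ (k + N + 1) = n ^ k * n ^ (N + 1) by rw [← pow_add, add_assoc], mul_nsmul', ← eb, e,
        ← Preadditive.comp_nsmul, ← mul_nsmul', mul_comm, mul_nsmul', ha, nsmul_zero, comp_zero]
    have hE : E ∈ 𝒟 := by
      refine div_of_forall_prime _ fun q hq => le_antisymm (img_mulN_le _ _) ?_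
      by_cases hqn : q ∣ n
      · obtain ⟨c, hc⟩ := hqn
        have h2 : img (mulN A n) E = img (mulN A q) (img (mulN A c) E) := by
          rw [← img_mulN_mul, mul_comm, hc]
        conv_lhs => rw [← hnE, h2]
        exact GrothLib.ARSys.img_mono _ (img_mulN_le _ _)
      · rw [(GrothLib.ARSys.gc_img_pre (mulN A q)).l_iSup]
        refine iSup_mono fun k => ?_
        rw [img_mulN_comm]
        refine GrothLib.ARSys.img_mono _ ?_
        rw [GrothLib.ARSys.le_iff_factors]
        intro T x hx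
        have hx0 := (factors_tor_iff _ _).1 hx
        obtain ⟨u, v, huv⟩ := exists_bezout (M := T ⟶ A) (a := q) (b := n ^ k)
          (Nat.Coprime.pow_right _ (hq.coprime_iff_not_dvd.2 hqn))
        refine (factors_img_mul_iff _ _ _).2 ⟨T, 𝟙 T, inferInstance, u • x, factors_zsmul hx u, ?_⟩
        rw [Category.id_comp, smul_comm q u]
        conv_lhs => rw [huv x, hx0, zsmul_zero, add_zero]
    refine le_trans ?_ (le_sSup hE)
    rw [GrothLib.ARSys.le_iff_factors]
    intro T y hy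
    obtain ⟨h1, h2⟩ := (GrothLib.ARSys.factors_inf_iff y).1 hy
    obtain ⟨T', π, hπ, x, e⟩ := (factors_pw_iff _ _).1 h1
    rw [factors_tor_iff] at h2
    refine GrothLib.ARSys.factors_of_epi π (Subobject.factors_of_le _ (le_iSup _ (N + 1))
      ((factors_img_mul_iff _ _ _).2 ⟨T', 𝟙 _, inferInstance, x, (factors_tor_iff _ _).2 ?_,
        by rw [Category.id_comp, e]⟩))
    rw [pow_succ', mul_nsmul', ← e, ← Preadditive.comp_nsmul, h2, comp_zero]
  have hDcof : Cof Mem (D : V) := (hS.cof_subobject_iff D).2 hDn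
  refine ⟨D, fun k hk => (epi_mulN_iff D k).2 (hDdiv k hk),
    fun D' h' => le_sSup (fun k hk => (epi_mulN_iff D' k).1 (h' k hk)),
    fun n hn => hS.cof_iff.1 hDcof n hn, fun n hn => ?_⟩
  have hse : (ShortComplex.mk D.arrow (cokernel.π D.arrow) (cokernel.condition _)).ShortExact :=
    { exact := ShortComplex.exact_of_g_is_cokernel _ (cokernelIsCokernel _)
      mono_f := (inferInstance : Mono D.arrow)
      epi_g := (inferInstance : Epi (cokernel.π D.arrow)) }
  haveI : Epi (mulN (D : V) n) := (epi_mulN_iff D n).2 (hDdiv n hn)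
  exact (hS.cof_right hse (hS.cof_iff.1 hDcof n hn) (hS.cof_iff.1 hA n hn)
    (hS.zero _ (isZero_cokernel_of_epi _)) (hS.cof_quot hA hn)).1

end Largest

end GrothLib.IndCof
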