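import Groth.Agent.Lib.IndCof.Basic

/-!
# The essential image of `C` in `Ind C` is a good class of small objects
-/

universe v

open CategoryTheory CategoryTheory.Limits ZeroObject

namespace GrothLib.IndCof

variable {C : Type v} [SmallCategory C] [Abelian C]

/-- The small objects of `Ind C`. -/
abbrev YMem : ObjectProperty (Ind C) := (Ind.yoneda (C := C)).essImage

instance additive_indYoneda : (Ind.yoneda (C := C)).Additive :=
  Functor.additive_of_preserves_binary_products _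

/-- `Hom(yZ, -)` is evaluation at `Z`. -/
noncomputable def coyonedaYonedaIso (Z : C) :
    coyoneda.obj (Opposite.op ((Ind.yoneda (C := C)).obj Z)) ≅
      Ind.inclusion C ⋙ (evaluation Cᵒᵖ (Type v)).obj (Opposite.op Z) :=
  NatIso.ofComponents
    (fun W => (((Ind.inclusion.fullyFaithful (C := C)).homEquiv).trans
      (((Ind.yonedaCompInclusion (C := C)).app Z).homFromEquiv.trans yonedaEquiv)).toIso)
    (fun {W W'} g => by
      ext (φ : (Ind.yoneda (C := C)).obj Z ⟶ W)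
      simp [yonedaEquiv, Functor.FullyFaithful.homEquiv, Iso.homFromEquiv])

instance {J : Type v} [SmallCategory J] [IsFiltered J] (Z : C) :
    PreservesColimitsOfShape J (coyoneda.obj (Opposite.op ((Ind.yoneda (C := C)).obj Z))) :=
  preservesColimitsOfShape_of_natIso (coyonedaYonedaIso Z).symm

theorem gen_yoneda {A R : Ind C} (g : A ⟶ R)
    (h : ∀ (T : Ind C) (x : T ⟶ A), YMem T → x ≫ g = 0) : g = 0 :=
  Ind.isSeparating_range_yoneda g 0 fun G hG x => by
    obtain ⟨X⟩ := hG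
    rw [comp_zero]
    exact h _ x (Functor.obj_mem_essImage _ X)

theorem ker_yoneda {X Y : Ind C} (f : X ⟶ Y) (hX : YMem X) (hY : YMem Y) : YMem (kernel f) := by
  obtain ⟨X₀, ⟨eX⟩⟩ := hX
  obtain ⟨Y₀, ⟨eY⟩⟩ := hY
  let f₀ : X₀ ⟶ Y₀ := (Ind.yoneda (C := C)).preimage (eX.hom ≫ f ≫ eY.inv)
  refine ⟨kernel f₀, ⟨PreservesKernel.iso (Ind.yoneda (C := C)) f₀ ≪≫ kernel.mapIso _ f eX eY ?_⟩⟩
  simp [f₀]

theorem coker_yoneda {X Y : Ind C} (f : X ⟶ Y) (hX : YMem X) (hY : YMem Y) : YMem (cokernel f) := by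
  obtain ⟨X₀, ⟨eX⟩⟩ := hX
  obtain ⟨Y₀, ⟨eY⟩⟩ := hY
  let f₀ : X₀ ⟶ Y₀ := (Ind.yoneda (C := C)).preimage (eX.hom ≫ f ≫ eY.inv)
  refine ⟨cokernel f₀, ⟨PreservesCokernel.iso (Ind.yoneda (C := C)) f₀ ≪≫ cokernel.mapIso _ f eX eY ?_⟩⟩
  simp [f₀]

/-- An epimorphism onto an object of `C` is split up to an epimorphism from `C`. -/
theorem exists_epi_comp {E : Ind C} {Z₀ : C} (q : E ⟶ (Ind.yoneda (C := C)).obj Z₀) [Epi q] :
    ∃ (X : C) (x : (Ind.yoneda (C := C)).obj X ⟶ E), Epi (x ≫ q) := by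
  let Y := Ind.yoneda (C := C)
  let P := E.presentation
  let e := Ind.colimitPresentationCompYoneda E
  let l : ∀ i : P.I, Y.obj (P.F.obj i) ⟶ E := fun i => colimit.ι (P.F ⋙ Y) i ≫ e.hom
  have hl : ∀ {i j : P.I} (f : i ⟶ j), Y.map (P.F.map f) ≫ l j = l i := fun {i j} f => by
    simp only [l, ← Category.assoc]
    congr 1
    exact colimit.w (P.F ⋙ Y) f
  let h : ∀ i : P.I, P.F.obj i ⟶ Z₀ := fun i => Y.preimage (l i ≫ q)
  have hh : ∀ {i j : P.I} (f : i ⟶ j), P.F.map f ≫ h j = h i := fun {i j} f => by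
    apply Y.map_injective
    simp only [h, Functor.map_comp, Functor.map_preimage, ← Category.assoc, hl]
  let G : P.I ⥤ C :=
    { obj := fun i => cokernel (h i)
      map := fun {i j} f => cokernel.map (h i) (h j) (P.F.map f) (𝟙 Z₀) (by simp [hh f])
      map_id := fun i => by ext; simp
      map_comp := fun {i j k} f g => by ext; simp }
  let c : Cocone (G ⋙ Y) :=
    { pt := 0
      ι := { app := fun i => 0, naturality := fun _ _ _ => by simp } }
  have hzero : ∀ (s : Cocone (G ⋙ Y)) (i : P.I), s.ι.app i = 0 := fun s i => by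
    let v : ∀ i, Y.obj Z₀ ⟶ s.pt := fun i => Y.map (cokernel.π (h i)) ≫ s.ι.app i
    have hv : ∀ {i j : P.I} (f : i ⟶ j), v i = v j := fun {i j} f => by
      show Y.map (cokernel.π (h i)) ≫ s.ι.app i = Y.map (cokernel.π (h j)) ≫ s.ι.app j
      rw [← s.w f, Functor.comp_map, ← Category.assoc, ← Functor.map_comp]
      congr 2
      simp [G]
    have hconst : ∀ a b, v a = v b := fun a b =>
      (hv (IsFiltered.leftToMax a b)).trans (hv (IsFiltered.rightToMax a b)).symm
    have hk : ∀ a, l a ≫ q ≫ v a = 0 := fun a => by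
      rw [← Category.assoc, show l a ≫ q = Y.map (h a) from (Y.map_preimage _).symm]
      simp only [v, ← Category.assoc, ← Functor.map_comp, cokernel.condition, Functor.map_zero, zero_comp]
    have hqv : q ≫ v i = 0 := (cancel_epi e.hom).1 (colimit.hom_ext fun a => by
      rw [comp_zero, comp_zero, ← Category.assoc, hconst i a]
      exact hk a)
    have hvi : v i = 0 := (cancel_epi q).1 (hqv.trans comp_zero.symm)
    haveI : Epi (Y.map (cokernel.π (h i))) := inferInstance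
    exact (cancel_epi (Y.map (cokernel.π (h i)))).1 (hvi.trans comp_zero.symm)
  have hc : IsColimit c :=
    { desc := fun s => 0
      fac := fun s i => by rw [comp_zero]; exact (hzero s i).symm
      uniq := fun s m _ => (isZero_zero (Ind C)).eq_of_src _ _ }
  let Φ := coyoneda.obj (Opposite.op (Y.obj Z₀))
  have hcΦ := isColimitOfPreserves Φ hc
  obtain ⟨i⟩ : Nonempty P.I := IsFiltered.nonempty
  obtain ⟨j, f, hj⟩ := (Types.FilteredColimit.isColimit_eq_iff' hcΦ
    (i := i) (Y.map (cokernel.π (h i))) (0 : Y.obj Z₀ ⟶ Y.obj (cokernel (h i)))).1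
    ((isZero_zero (Ind C)).eq_of_tgt _ _)
  have hj' : Y.map (cokernel.π (h i)) ≫ Y.map (G.map f) =
      (0 : Y.obj Z₀ ⟶ Y.obj (cokernel (h i))) ≫ Y.map (G.map f) := hj
  rw [zero_comp, ← Functor.map_comp] at hj'
  have hπ : cokernel.π (h j) = 0 := by
    apply Y.map_injective
    rw [Functor.map_zero, ← hj']
    congr 1
    simp [G]
  haveI : Epi (h j) := Preadditive.epi_of_cokernel_zero hπ
  refine ⟨P.F.obj j, l j, ?_⟩
  rw [show l j ≫ q = Y.map (h j) from (Y.map_preimage _).symm]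
  infer_instance

theorem ext_yoneda (S : ShortComplex (Ind C)) (hS : S.ShortExact) (h1 : YMem S.X₁) (h3 : YMem S.X₃) :
    YMem S.X₂ := by
  obtain ⟨Z₀, ⟨eZ⟩⟩ := h3
  haveI := hS.mono_f
  haveI := hS.epi_g
  obtain ⟨X, x, hx⟩ := exists_epi_comp (S.g ≫ eZ.inv)
  have hX : YMem ((Ind.yoneda (C := C)).obj X) := Functor.obj_mem_essImage _ _
  haveI : Epi (x ≫ S.g) := by
    have : x ≫ S.g = (x ≫ S.g ≫ eZ.inv) ≫ eZ.hom := by simp
    rw [this]
    exact epi_comp _ _
  let K := kernel (x ≫ S.g)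
  have hK : YMem K := ker_yoneda _ hX ⟨Z₀, ⟨eZ⟩⟩
  let a : K ⟶ S.X₁ := hS.exact.lift (kernel.ι (x ≫ S.g) ≫ x) (by rw [Category.assoc, kernel.condition])
  have hT : YMem (S.X₁ ⊞ (Ind.yoneda (C := C)).obj X) := by
    obtain ⟨P₀, ⟨eP⟩⟩ := h1
    haveI : PreservesBinaryBiproduct P₀ X (Ind.yoneda (C := C)) :=
      preservesBinaryBiproduct_of_preservesBinaryProduct _
    exact ⟨P₀ ⊞ X, ⟨Functor.mapBiprod (Ind.yoneda (C := C)) P₀ X ≪≫ biprod.mapIso eP (Iso.refl _)⟩⟩
  let φ : S.X₁ ⊞ (Ind.yoneda (C := C)).obj X ⟶ S.X₂ := biprod.desc S.f x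
  let ψ : K ⟶ S.X₁ ⊞ (Ind.yoneda (C := C)).obj X := biprod.lift (-a) (kernel.ι (x ≫ S.g))
  have w : ψ ≫ φ = 0 := by
    rw [biprod.lift_desc, Preadditive.neg_comp, hS.exact.lift_f]
    simp
  have hex : (ShortComplex.mk ψ φ w).Exact := by
    rw [ShortComplex.exact_iff_exact_up_to_refinements]
    intro T y hy
    have hy' : (y ≫ biprod.snd) ≫ x ≫ S.g = 0 := by
      have := congrArg (· ≫ S.g) hy
      simp only [φ, biprod.desc_eq, Preadditive.comp_add, Preadditive.add_comp, Category.assoc, zero_comp,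
        S.zero, comp_zero, zero_add] at this
      simpa using this
    refine ⟨T, 𝟙 T, inferInstance, kernel.lift _ _ hy', ?_⟩
    rw [Category.id_comp]
    apply biprod.hom_ext
    · apply (cancel_mono S.f).1
      simp only [ψ, Category.assoc, biprod.lift_fst, Preadditive.neg_comp, Preadditive.comp_neg,
        a, hS.exact.lift_f, kernel.lift_ι_assoc]
      have := hy
      simp only [φ, biprod.desc_eq, Preadditive.comp_add] at this
      exact eq_neg_of_add_eq_zero_left this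
    · simp only [ψ, Category.assoc, biprod.lift_snd, kernel.lift_ι]
  haveI : Epi φ := Preadditive.epi_of_cancel_zero _ fun {R} g hg => by
    have h1 : S.f ≫ g = 0 := by
      have := biprod.inl ≫= hg
      simpa [φ] using this
    have h2 : x ≫ g = 0 := by
      have := biprod.inr ≫= hg
      simpa [φ] using this
    have h3 := hS.exact.g_desc g h1
    rw [← h3, ← Category.assoc] at h2
    rw [← h3, (cancel_epi (x ≫ S.g)).1 (h2.trans comp_zero.symm), comp_zero]
  haveI : Epi (ShortComplex.mk ψ φ w).g := (inferInstance : Epi φ)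
  obtain ⟨W, ⟨eW⟩⟩ := coker_yoneda ψ hK hT
  exact ⟨W, ⟨eW ≪≫ (show cokernel ψ ≅ S.X₂ from
    IsColimit.coconePointUniqueUpToIso (cokernelIsCokernel ψ) hex.gIsCokernel)⟩⟩

theorem art_yoneda (hart : ∀ X : C, IsArtinianObject X) (T : Ind C) (hT : YMem T)
    (S : ℕ → Subobject T) (hanti : Antitone S) (hm : ∀ m, YMem (S m : Ind C)) :
    ∃ N, ∀ m, N ≤ m → S m = S N := by
  obtain ⟨X, ⟨eT⟩⟩ := hT
  choose W hW using hm
  let e := fun m => (hW m).some
  let ι : ∀ m, W m ⟶ X := fun m =>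
    (Ind.yoneda (C := C)).preimage ((e m).hom ≫ (S m).arrow ≫ eT.inv)
  have hι : ∀ m, (Ind.yoneda (C := C)).map (ι m) = (e m).hom ≫ (S m).arrow ≫ eT.inv :=
    fun m => Functor.map_preimage _ _
  haveI : ∀ m, Mono (ι m) := fun m => (Ind.yoneda (C := C)).mono_of_mono_map (by rw [hι m]; infer_instance)
  let G : ℕ → Subobject X := fun m => Subobject.mk (ι m)
  have key : ∀ a b, S a ≤ S b ↔ G a ≤ G b := fun a b => by
    constructor
    · intro h
      refine Subobject.mk_le_mk_of_comm ((Ind.yoneda (C := C)).preimage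
        ((e a).hom ≫ Subobject.ofLE _ _ h ≫ (e b).inv)) ((Ind.yoneda (C := C)).map_injective ?_)
      rw [Functor.map_comp, Functor.map_preimage, hι, hι]
      simp
    · intro h
      refine Subobject.le_of_comm ((e a).inv ≫ (Ind.yoneda (C := C)).map (Subobject.ofMkLEMk _ _ h) ≫
        (e b).hom) ?_
      apply (cancel_mono eT.inv).1
      rw [Category.assoc, Category.assoc, Category.assoc, ← hι b,
        ← Functor.map_comp, Subobject.ofMkLEMk_comp, hι a]
      simp
  haveI := hart X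
  obtain ⟨N, hN⟩ := antitone_chain_condition_of_isArtinianObject (X := X)
    ⟨fun m => OrderDual.toDual (G m), fun a b hab => (key b a).1 (hanti hab)⟩
  exact ⟨N, fun m hm' => le_antisymm (hanti hm') ((key N m).2 (le_of_eq (hN m hm')))⟩

/-- The setup for `C ⊆ Ind C`. -/
theorem setup (hart : ∀ X : C, IsArtinianObject X) (htor : ∀ X : C, ∃ n : ℕ, 0 < n ∧ n • 𝟙 X = 0) :
    Setup (YMem (C := C)) where
  of_iso e h := ObjectProperty.prop_of_iso _ e h
  ker := ker_yoneda
  coker := coker_yoneda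
  ext := ext_yoneda
  zero X hX := ⟨0, ⟨(Functor.map_isZero _ (isZero_zero C)).iso hX⟩⟩
  gen := gen_yoneda
  torsion T hT := by
    obtain ⟨X, ⟨e⟩⟩ := hT
    obtain ⟨n, hn, h⟩ := htor X
    refine ⟨n, hn, ?_⟩
    have h' : (n • 𝟙 X : X ⟶ X) = 0 := h
    calc n • 𝟙 T = e.inv ≫ (Ind.yoneda (C := C)).map (n • 𝟙 X) ≫ e.hom := by
          simp [Functor.map_nsmul, Preadditive.comp_nsmul, Preadditive.nsmul_comp]
      _ = 0 := by rw [h']; simp
  art := art_yoneda hart

/-- For `p`-power torsion: torsion by every positive integer. -/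
theorem cof_of_pow (hart : ∀ X : C, IsArtinianObject X) {p : ℕ} (hp : p.Prime)
    (htor : ∀ X : C, ∃ n : ℕ, (p ^ n) • 𝟙 X = 0) {A : Ind C}
    (hA : ∀ n : ℕ, YMem (kernel ((p ^ n) • 𝟙 A))) : Cof (YMem (C := C)) A := by
  have hS := setup hart fun X => let ⟨n, hn⟩ := htor X; ⟨p ^ n, pow_pos hp.pos n, hn⟩
  intro m hm
  obtain ⟨v, m', hdvd, hm'⟩ := Nat.exists_eq_pow_mul_and_not_dvd hm.ne' p hp.ne_one
  suffices h : tor A m = tor A (p ^ v) by
    rw [h]; exact hS.of_iso (kernelSubobjectIso _).symm (hA v)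
  refine le_antisymm ?_ (tor_mono A ⟨m', hm'⟩)
  refine hS.le_of_forall _ _ fun T x n _ _ hx => ?_
  rw [factors_tor_iff] at hx ⊢
  have hy : m' • (p ^ v • x) = 0 := by rw [← mul_nsmul', mul_comm, ← hm', hx]
  refine hS.gen _ fun W w hW => ?_
  obtain ⟨X, ⟨e⟩⟩ := hW
  obtain ⟨k, hk⟩ := htor X
  have hwk : p ^ k • (w ≫ (p ^ v • x)) = 0 := by
    have hW0 : p ^ k • 𝟙 W = 0 := by
      calc p ^ k • 𝟙 W = e.inv ≫ (Ind.yoneda (C := C)).map (p ^ k • 𝟙 X) ≫ e.hom := by
            simp [Functor.map_nsmul, Preadditive.comp_nsmul, Preadditive.nsmul_comp]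
        _ = 0 := by rw [hk]; simp
    rw [← Category.id_comp (w ≫ (p ^ v • x)), ← Preadditive.nsmul_comp, hW0, zero_comp]
  have hwm : m' • (w ≫ (p ^ v • x)) = 0 := by rw [← Preadditive.comp_nsmul, hy, comp_zero]
  obtain ⟨u, u', huv⟩ := exists_bezout (M := W ⟶ A) (a := p ^ k) (b := m')
    (Nat.Coprime.pow_left _ (hp.coprime_iff_not_dvd.2 hdvd))
  rw [huv (w ≫ (p ^ v • x)), hwk, hwm, zsmul_zero, zsmul_zero, add_zero]

end GrothLib.IndCof
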