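import Groth.Agent.Lib.IndCof.Basic

/-!
# Quotients `A / n A`, kernels and cokernels of objects of cofinite type
-/

universe v u

open CategoryTheory CategoryTheory.Limits

namespace GrothLib.IndCof

variable {V : Type u} [Category.{v} V] [Abelian V]

open GrothLib.ARSys (img)

theorem img_mulN_le {A : V} (S : Subobject A) (n : ℕ) : img (mulN A n) S ≤ S := by
  rw [GrothLib.ARSys.le_iff_factors]
  intro T y hy
  obtain ⟨T', π, hπ, x, hx, e⟩ := (factors_img_mul_iff S y n).1 hy
  exact GrothLib.ARSys.factors_of_epi π (e ▸ factors_nsmul hx n)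

theorem img_mulN_mul {A : V} (S : Subobject A) (a b : ℕ) :
    img (mulN A (a * b)) S = img (mulN A b) (img (mulN A a) S) := by
  rw [GrothLib.ARSys.img_img]
  congr 1
  rw [comp_mulN, mulN, mulN, ← mul_nsmul]

theorem img_mulN_comm {A : V} (S : Subobject A) (a b : ℕ) :
    img (mulN A a) (img (mulN A b) S) = img (mulN A b) (img (mulN A a) S) := by
  rw [← img_mulN_mul, ← img_mulN_mul, mul_comm]

theorem pw_eq_img (A : V) (n : ℕ) : imageSubobject (mulN A n) = img (mulN A n) ⊤ :=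
  (GrothLib.ARSys.img_top _).symm

theorem pw_mul_le (A : V) (a b : ℕ) : imageSubobject (mulN A (a * b)) ≤ imageSubobject (mulN A a) := by
  rw [pw_eq_img, pw_eq_img, img_mulN_mul]
  exact img_mulN_le _ _

/-- The snake diagram of multiplication by `n` on a short exact sequence. -/
noncomputable def mulSnake (S : ShortComplex V) (hS : S.ShortExact) (n : ℕ) :
    ShortComplex.SnakeInput V where
  L₁ := S
  L₂ := S
  v₁₂ := ShortComplex.homMk (mulN S.X₁ n) (mulN S.X₂ n) (mulN S.X₃ n) (mulN_comm _ _) (mulN_comm _ _)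
  L₀ := _
  v₀₁ := kernel.ι _
  L₃ := _
  v₂₃ := cokernel.π _
  w₀₂ := kernel.condition _
  w₁₃ := cokernel.condition _
  h₀ := kernelIsKernel _
  h₃ := cokernelIsCokernel _
  L₁_exact := hS.exact
  epi_L₁_g := hS.epi_g
  L₂_exact := hS.exact
  mono_L₂_f := hS.mono_f

variable {Mem : ObjectProperty V} (hS : Setup Mem)

include hS

theorem Setup.cof_right {S : ShortComplex V} (hse : S.ShortExact) {n : ℕ}
    (h1 : Mem (kernel (mulN S.X₁ n))) (h2 : Mem (kernel (mulN S.X₂ n)))
    (q1 : Mem (cokernel (mulN S.X₁ n))) (q2 : Mem (cokernel (mulN S.X₂ n))) :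
    Mem (kernel (mulN S.X₃ n)) ∧ Mem (cokernel (mulN S.X₃ n)) := by
  let D := mulSnake S hse n
  have k₁ : Mem D.L₀.X₁ := hS.of_iso (IsLimit.conePointUniqueUpToIso (kernelIsKernel _) D.h₀τ₁) h1
  have k₂ : Mem D.L₀.X₂ := hS.of_iso (IsLimit.conePointUniqueUpToIso (kernelIsKernel _) D.h₀τ₂) h2
  have c₁ : Mem D.L₃.X₁ :=
    hS.of_iso (IsColimit.coconePointUniqueUpToIso (cokernelIsCokernel _) D.h₃τ₁) q1
  have c₂ : Mem D.L₃.X₂ :=
    hS.of_iso (IsColimit.coconePointUniqueUpToIso (cokernelIsCokernel _) D.h₃τ₂) q2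
  refine ⟨hS.of_iso (IsLimit.conePointUniqueUpToIso D.h₀τ₃ (limit.isLimit _)) ?_,
    hS.of_iso (IsColimit.coconePointUniqueUpToIso D.h₃τ₃ (colimit.isColimit _)) ?_⟩
  · exact hS.prop_five D.L₀.f D.L₀.g D.δ D.L₃.f _ _ _ D.L₀_exact D.L₁'_exact D.L₂'_exact k₁ k₂ c₁ c₂
  · haveI : Epi D.L₂.g := hse.epi_g
    haveI : Epi D.L₃.g := inferInstance
    exact hS.prop_right_of_exact D.L₃ D.L₃_exact c₁ c₂

theorem Setup.exists_img_tor_stable {A : V} (hA : Cof Mem A) {n : ℕ} (hn : 0 < n) :
    ∃ N, ∀ k, N ≤ k → img (mulN A (n ^ k)) (tor A (n ^ (k + 1))) =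
      img (mulN A (n ^ N)) (tor A (n ^ (N + 1))) := by
  refine hS.art_le (tor A n) (hA n hn) _ (antitone_nat_of_succ_le fun k => ?_) (fun k => ?_) (fun k => ?_)
  · rw [GrothLib.ARSys.le_iff_factors]
    intro T y hy
    obtain ⟨T', π, hπ, x, hx, e⟩ := (factors_img_mul_iff _ _ _).1 hy
    rw [factors_tor_iff] at hx
    refine (factors_img_mul_iff _ _ _).2 ⟨T', π, hπ, n • x, (factors_tor_iff _ _).2 ?_, ?_⟩
    · rw [← mul_nsmul', ← pow_succ, hx]
    · rw [e, ← mul_nsmul', ← pow_succ]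
  · rw [GrothLib.ARSys.le_iff_factors]
    intro T y hy
    obtain ⟨T', π, hπ, x, hx, e⟩ := (factors_img_mul_iff _ _ _).1 hy
    rw [factors_tor_iff] at hx
    refine GrothLib.ARSys.factors_of_epi π ((factors_tor_iff _ _).2 ?_)
    rw [e, ← mul_nsmul', ← pow_succ', hx]
  · refine hS.prop_image_le _ (tor A n) (hA n hn) (hA _ (pow_pos hn _)) ((factors_tor_iff _ _).2 ?_)
    rw [comp_mulN, ← mul_nsmul', ← pow_succ', ← comp_mulN, kernelSubobject_arrow_comp]

omit hS in
theorem exists_dvd_pow_mul_coprime (n : ℕ) : ∀ m : ℕ, 0 < m →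
    ∃ k m₂ : ℕ, 0 < m₂ ∧ Nat.Coprime m₂ n ∧ m ∣ n ^ k * m₂ := by
  intro m
  induction m using Nat.strong_induction_on with
  | _ m ih =>
    intro hm
    by_cases h : Nat.gcd m n = 1
    · exact ⟨0, m, hm, h, by simp⟩
    · obtain ⟨m', hm'⟩ := Nat.gcd_dvd_left m n
      have hd : 1 < Nat.gcd m n := by
        have := Nat.gcd_pos_of_pos_left n hm
        omega
      have hm'0 : 0 < m' := Nat.pos_of_ne_zero (by rintro rfl; rw [mul_zero] at hm'; omega)
      have hlt : m' < m := by rw [hm']; exact lt_mul_left hm'0 hd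
      obtain ⟨k, m₂, h1, h2, h3⟩ := ih m' hlt hm'0
      refine ⟨k + 1, m₂, h1, h2, ?_⟩
      rw [hm', pow_succ', mul_assoc]
      exact mul_dvd_mul (Nat.gcd_dvd_right m n) h3

/-- `A[nᴺ] → A / n A` is an epimorphism for `N` large. -/
theorem Setup.exists_epi_tor {A : V} (hA : Cof Mem A) {n : ℕ} (hn : 0 < n) :
    ∃ N, Epi ((tor A (n ^ N)).arrow ≫ cokernel.π (mulN A n)) := by
  obtain ⟨N, hN⟩ := hS.exists_img_tor_stable hA hn
  refine ⟨N, Preadditive.epi_of_cancel_zero _ fun {R} g hg => ?_⟩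
  set G := cokernel.π (mulN A n) ≫ g with hG
  have hGn : ∀ {T : V} (y : T ⟶ A), (n • y) ≫ G = 0 := fun y => by
    rw [← comp_mulN, hG, Category.assoc, cokernel.condition_assoc, zero_comp, comp_zero]
  have hGN : ∀ (k : ℕ) {T : V} (x : T ⟶ A), n ^ k • x = 0 → x ≫ G = 0 := by
    intro k
    induction k with
    | zero =>
      intro T x hx
      rw [pow_zero, one_nsmul] at hx
      rw [hx, zero_comp]
    | succ k ih =>
      intro T x hx
      by_cases hk : k + 1 ≤ N
      · have hf : (tor A (n ^ N)).Factors x :=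
          Subobject.factors_of_le _ (tor_mono A (pow_dvd_pow n hk)) ((factors_tor_iff _ _).2 hx)
        rw [← Subobject.factorThru_arrow _ x hf, Category.assoc, hG,
          ← Category.assoc (tor A (n ^ N)).arrow, hg, comp_zero]
      · have h1 : (img (mulN A (n ^ k)) (tor A (n ^ (k + 1)))).Factors (n ^ k • x) :=
          (factors_img_mul_iff _ _ _).2 ⟨T, 𝟙 T, inferInstance, x, (factors_tor_iff _ _).2 hx, by simp⟩
        rw [hN k (by omega), ← hN (k + 1) (by omega)] at h1
        obtain ⟨T', π, hπ, y, hy, e⟩ := (factors_img_mul_iff _ _ _).1 h1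
        have hz : n ^ k • (π ≫ x - n • y) = 0 := by
          rw [nsmul_sub, ← Preadditive.comp_nsmul, e, ← mul_nsmul', ← pow_succ, sub_self]
        have := ih _ hz
        rw [Preadditive.sub_comp, hGn, sub_zero, Category.assoc] at this
        exact (cancel_epi π).1 (this.trans comp_zero.symm)
  have hG0 : G = 0 := hS.eq_zero_of_forall G fun T x m hm hx => by
    obtain ⟨k, m₂, hm₂, hco, hdvd⟩ := exists_dvd_pow_mul_coprime n m hm
    have hx' : (n ^ k * m₂) • x = 0 := by
      obtain ⟨c, hc⟩ := hdvd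
      rw [hc, mul_comm, mul_nsmul', hx, nsmul_zero]
    obtain ⟨u, v, huv⟩ := exists_bezout (M := T ⟶ A) (a := n ^ k) (b := m₂)
      (Nat.Coprime.pow_left _ hco.symm)
    obtain ⟨u', v', huv'⟩ := exists_bezout (M := T ⟶ A) (a := n) (b := m₂) hco.symm
    have e1 : (n ^ k • x) ≫ G = 0 := by
      have h2 : m₂ • (n ^ k • x) = 0 := by rw [← mul_nsmul', mul_comm, hx']
      rw [huv' (n ^ k • x), h2, zsmul_zero, add_zero, ← smul_comm n u', hGn]
    have e2 : (m₂ • x) ≫ G = 0 := hGN k _ (by rw [← mul_nsmul', hx'])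
    rw [huv x, Preadditive.add_comp, Preadditive.zsmul_comp, Preadditive.zsmul_comp, e1, e2,
      zsmul_zero, zsmul_zero, add_zero]
  exact (cancel_epi (cokernel.π (mulN A n))).1 (hG0.trans comp_zero.symm)

/-- `A / n A` is small. -/
theorem Setup.cof_quot {A : V} (hA : Cof Mem A) {n : ℕ} (hn : 0 < n) :
    Mem (cokernel (mulN A n)) := by
  obtain ⟨N, hN⟩ := hS.exists_epi_tor hA hn
  let e := (tor A (n ^ N)).arrow ≫ cokernel.π (mulN A n)
  let a : (tor A (n ^ (N + 1)) : V) ⟶ (tor A (n ^ N) : V) :=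
    (tor A (n ^ N)).factorThru (n • (tor A (n ^ (N + 1))).arrow) ((factors_tor_iff _ _).2 (by
      rw [← mul_nsmul', ← pow_succ, ← comp_mulN, kernelSubobject_arrow_comp]))
  have hae : a ≫ e = 0 := by
    show a ≫ (tor A (n ^ N)).arrow ≫ cokernel.π (mulN A n) = 0
    rw [← Category.assoc, Subobject.factorThru_arrow, ← comp_mulN, Category.assoc, cokernel.condition,
      comp_zero]
  haveI : Epi (ShortComplex.mk a e hae).g := hN
  refine hS.prop_right_of_exact (ShortComplex.mk a e hae) ?_ (hA _ (pow_pos hn _)) (hA _ (pow_pos hn _))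
  rw [ShortComplex.exact_iff_exact_up_to_refinements]
  intro T y hy
  have hex : (ShortComplex.mk (mulN A n) (cokernel.π _) (cokernel.condition _)).Exact :=
    ShortComplex.exact_of_g_is_cokernel _ (cokernelIsCokernel _)
  obtain ⟨T', π, hπ, z, hz⟩ := hex.exact_up_to_refinements (y ≫ (tor A (n ^ N)).arrow)
    ((Category.assoc _ _ _).trans hy)
  have hz' : π ≫ y ≫ (tor A (n ^ N)).arrow = n • z := hz.trans (comp_mulN z n)
  have hzf : (tor A (n ^ (N + 1))).Factors z := by
    rw [factors_tor_iff, pow_succ, mul_nsmul', ← hz', ← comp_mulN]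
    simp only [Category.assoc, kernelSubobject_arrow_comp, comp_zero]
  refine ⟨T', π, hπ, (tor A (n ^ (N + 1))).factorThru z hzf, (cancel_mono (tor A (n ^ N)).arrow).1 ?_⟩
  rw [Category.assoc, hz', Category.assoc]
  rw [Subobject.factorThru_arrow, Preadditive.comp_nsmul, Subobject.factorThru_arrow]

theorem Setup.cof_right_of_shortExact {S : ShortComplex V} (hse : S.ShortExact)
    (h1 : Cof Mem S.X₁) (h2 : Cof Mem S.X₂) : Cof Mem S.X₃ :=
  hS.cof_iff.2 fun n hn => (hS.cof_right hse (hS.cof_iff.1 h1 n hn) (hS.cof_iff.1 h2 n hn)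
    (hS.cof_quot h1 hn) (hS.cof_quot h2 hn)).1

theorem Setup.cof_abelianImage {A B : V} (f : A ⟶ B) (hA : Cof Mem A) (hB : Cof Mem B) :
    Cof Mem (Abelian.image f) := by
  have hse : (ShortComplex.mk (kernel.ι f) (cokernel.π (kernel.ι f))
      (cokernel.condition _)).ShortExact :=
    { exact := ShortComplex.exact_of_g_is_cokernel _ (cokernelIsCokernel _)
      mono_f := (inferInstance : Mono (kernel.ι f))
      epi_g := (inferInstance : Epi (cokernel.π (kernel.ι f))) }
  exact hS.cof_of_iso (Abelian.coimageIsoImage f)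
    (hS.cof_right_of_shortExact hse (hS.cof_kernel f hA hB) hA)

theorem Setup.cof_imageSubobject {A B : V} (f : A ⟶ B) (hA : Cof Mem A) (hB : Cof Mem B) :
    Cof Mem (imageSubobject f : V) :=
  hS.cof_of_iso (Abelian.imageIsoImage f ≪≫ (imageSubobjectIso f).symm) (hS.cof_abelianImage f hA hB)

theorem Setup.cof_cokernel {A B : V} (f : A ⟶ B) (hA : Cof Mem A) (hB : Cof Mem B) :
    Cof Mem (cokernel f) := by
  have hse : (ShortComplex.mk (kernel.ι (cokernel.π f)) (cokernel.π f)
      (kernel.condition _)).ShortExact :=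
    { exact := ShortComplex.exact_of_f_is_kernel _ (kernelIsKernel _)
      mono_f := (inferInstance : Mono (kernel.ι (cokernel.π f)))
      epi_g := (inferInstance : Epi (cokernel.π f)) }
  exact hS.cof_right_of_shortExact hse (hS.cof_abelianImage f hA hB) hB

/-- The images of `n ^ k` stabilise. -/
theorem Setup.exists_pw_stable {A : V} (hA : Cof Mem A) {n : ℕ} (hn : 0 < n) :
    ∃ N, ∀ k, N ≤ k → imageSubobject (mulN A (n ^ k)) = imageSubobject (mulN A (n ^ N)) := by
  obtain ⟨N, hN⟩ := hS.exists_epi_tor hA hn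
  have key : imageSubobject (mulN A (n ^ (N + 1))) = imageSubobject (mulN A (n ^ N)) := by
    refine le_antisymm (pow_succ n N ▸ pw_mul_le A _ _) ?_
    rw [GrothLib.ARSys.le_iff_factors]
    intro T y hy
    obtain ⟨T', π, hπ, a, e⟩ := (factors_pw_iff _ _).1 hy
    haveI := hN
    obtain ⟨T'', π', hπ', t, ht⟩ := surjective_up_to_refinements_of_epi
      ((tor A (n ^ N)).arrow ≫ cokernel.π (mulN A n)) (a ≫ cokernel.π (mulN A n))
    have hex : (ShortComplex.mk (mulN A n) (cokernel.π _) (cokernel.condition _)).Exact :=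
      ShortComplex.exact_of_g_is_cokernel _ (cokernelIsCokernel _)
    obtain ⟨T₃, π'', hπ'', b, hb⟩ := hex.exact_up_to_refinements (π' ≫ a - t ≫ (tor A (n ^ N)).arrow)
      (by show (π' ≫ a - t ≫ (tor A (n ^ N)).arrow) ≫ cokernel.π (mulN A n) = 0
          simp only [Preadditive.sub_comp, Category.assoc, ht, sub_self])
    refine GrothLib.ARSys.factors_of_epi π ?_
    refine GrothLib.ARSys.factors_of_epi π' ?_
    refine GrothLib.ARSys.factors_of_epi π'' ((factors_pw_iff _ _).2 ⟨T₃, 𝟙 _, inferInstance, b, ?_⟩)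
    have ht0 : n ^ N • (tor A (n ^ N)).arrow = 0 := by rw [← comp_mulN, kernelSubobject_arrow_comp]
    have hb' : π'' ≫ (π' ≫ a - t ≫ (tor A (n ^ N)).arrow) = n • b := hb.trans (comp_mulN b n)
    rw [Category.id_comp, e, pow_succ, mul_nsmul', ← hb', ← Preadditive.comp_nsmul, nsmul_sub,
      ← Preadditive.comp_nsmul t, ht0, comp_zero, sub_zero, Preadditive.comp_nsmul,
      Preadditive.comp_nsmul]
  refine ⟨N, fun k hk => ?_⟩
  induction k, hk using Nat.le_induction with
  | base => rfl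
  | succ k _ ih =>
    rw [pw_eq_img, pw_eq_img] at ih key ⊢
    rw [pow_succ, img_mulN_mul, ih, ← img_mulN_mul, ← pow_succ, key]

end GrothLib.IndCof
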